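import Groth.Prelude.Def_VecGrp
import Groth.Prelude.Def_HopfRep
import Mathlib

/-! Group modules over an affine group are comodules. -/

set_option autoImplicit false
set_option backward.isDefEq.respectTransparency false
universe u

open CategoryTheory AlgebraicGeometry WithConv
open scoped TensorProduct MonObj

noncomputable section

namespace Groth.Agent.GModComod

variable {R : Type u} [CommRing R] {A : Type u} [CommRing A] [HopfAlgebra R A] {E : Type u} [AddCommGroup E]
  [Module R E] {B : Type u} [CommRing B] [Algebra R B] {B' : Type u} [CommRing B'] [Algebra R B']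

variable (R A) in
/-- The group. -/
abbrev Gr : Over (Spec (CommRingCat.of R)) := (Spec (CommRingCat.of A)).asOver (Spec (CommRingCat.of R))

/-- Points. -/
def pts : WithConv (A →ₐ[R] B) ≃* (VecGrp.pt R B ⟶ Gr R A) := Spec.mapMulEquiv

/-- The operator of a point. -/
def act (δ : E →ₗ[R] E ⊗[R] A) (f : A →ₐ[R] B) : B ⊗[R] E →ₗ[B] B ⊗[R] E :=
  LinearMap.liftBaseChange B ((TensorProduct.comm R E B).toLinearMap ∘ₗ f.toLinearMap.lTensor E ∘ₗ δ)

theorem act_one_tmul (δ : E →ₗ[R] E ⊗[R] A) (f : A →ₐ[R] B) (x : E) :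
    act δ f ((1 : B) ⊗ₜ[R] x) = TensorProduct.comm R E B (f.toLinearMap.lTensor E (δ x)) := by
  simp [act]

theorem ext_one_tmul {φ ψ : B ⊗[R] E →ₗ[B] B ⊗[R] E} (h : ∀ x : E, φ ((1 : B) ⊗ₜ[R] x) = ψ ((1 : B) ⊗ₜ[R] x)) :
    φ = ψ := by
  refine LinearMap.ext fun z => ?_
  induction z with
  | zero => simp
  | add p q hp hq => simp only [map_add, hp, hq]
  | tmul b x => rw [← mul_one b, ← smul_eq_mul b (1 : B), ← TensorProduct.smul_tmul', map_smul, map_smul, h]

theorem act_act (δ : E →ₗ[R] E ⊗[R] A) (f g : A →ₐ[R] B) (x : E) :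
    act δ f (act δ g ((1 : B) ⊗ₜ[R] x)) = TensorProduct.comm R E B
      (((Algebra.TensorProduct.lmul' R).comp (Algebra.TensorProduct.map f g)).toLinearMap.lTensor E
        (TensorProduct.assoc R E A A (δ.rTensor A (δ x)))) := by
  rw [act_one_tmul]
  induction δ x with
  | zero => simp
  | add p q hp hq => simp only [map_add, hp, hq]
  | tmul y a =>
    simp only [LinearMap.lTensor_tmul, TensorProduct.comm_tmul, LinearMap.rTensor_tmul, AlgHom.toLinearMap_apply]
    rw [← mul_one (g a), ← smul_eq_mul (g a) (1 : B), ← TensorProduct.smul_tmul', map_smul, act_one_tmul]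
    induction δ y with
    | zero => simp
    | add p q hp hq => simp only [map_add, smul_add, TensorProduct.add_tmul, hp, hq]
    | tmul z c => simp [TensorProduct.smul_tmul', mul_comm]

theorem act_mul_apply (δ : E →ₗ[R] E ⊗[R] A) (f g : WithConv (A →ₐ[R] B)) (x : E) :
    act δ (f * g).ofConv ((1 : B) ⊗ₜ[R] x) = TensorProduct.comm R E B
      (((Algebra.TensorProduct.lmul' R).comp (Algebra.TensorProduct.map f.ofConv g.ofConv)).toLinearMap.lTensor E
        ((Coalgebra.comul (R := R) (A := A)).lTensor E (δ x))) := by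
  rw [act_one_tmul, ← LinearMap.lTensor_comp_apply]
  rfl

theorem act_natural (δ : E →ₗ[R] E ⊗[R] A) (φ : B →ₐ[R] B') (f : A →ₐ[R] B) (z : B ⊗[R] E) :
    VecGrp.Wmap φ (act δ f z) = act δ (φ.comp f) (VecGrp.Wmap φ z) := by
  induction z with
  | zero => simp
  | add p q hp hq => simp only [map_add, hp, hq]
  | tmul b x =>
    rw [← mul_one b, ← smul_eq_mul b (1 : B), ← TensorProduct.smul_tmul', map_smul, VecGrp.Wmap_smul,
      VecGrp.Wmap_smul, VecGrp.Wmap_tmul, map_one, map_smul, act_one_tmul, act_one_tmul]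
    congr 1
    induction δ x with
    | zero => simp
    | add p q hp hq => simp only [map_add, hp, hq]
    | tmul y a => simp [VecGrp.Wmap_tmul]

section Comod

variable [HopfRep.Comod R A E]

/-- The representation on points. -/
def rep : WithConv (A →ₐ[R] B) →* Module.End B (B ⊗[R] E) where
  toFun f := act (HopfRep.Comod.coact (k := R) (A := A) (V := E)) f.ofConv
  map_one' := ext_one_tmul fun x => by
    rw [act_one_tmul, Module.End.one_apply,
      show (1 : WithConv (A →ₐ[R] B)).ofConv.toLinearMap =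
        (Algebra.linearMap R B) ∘ₗ (Coalgebra.counit (R := R) (A := A)) from rfl, LinearMap.lTensor_comp_apply]
    have h := LinearMap.congr_fun (HopfRep.Comod.counit_comp (k := R) (A := A) (V := E)) x
    simp only [LinearMap.comp_apply] at h
    rw [h]
    simp
  map_mul' f g := ext_one_tmul fun x => by
    rw [Module.End.mul_apply, act_act, act_mul_apply]
    have h := LinearMap.congr_fun (HopfRep.Comod.coassoc (k := R) (A := A) (V := E)) x
    simp only [LinearMap.comp_apply, LinearEquiv.coe_coe] at h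
    rw [h]

/-- The operators. -/
def rho : (VecGrp.pt R B ⟶ Gr R A) →* (B ⊗[R] E ≃ₗ[B] B ⊗[R] E) :=
  (LinearMap.GeneralLinearGroup.generalLinearEquiv B (B ⊗[R] E)).toMonoidHom.comp
    (((rep (A := A) (E := E) (B := B)).comp (pts (R := R) (A := A) (B := B)).symm.toMonoidHom).toHomUnits)

theorem rho_apply (g : VecGrp.pt R B ⟶ Gr R A) (z : B ⊗[R] E) :
    rho g z = act (HopfRep.Comod.coact (k := R) (A := A) (V := E)) ((pts (R := R) (A := A) (B := B)).symm g).ofConv z :=
  rfl

/-- The group module of a comodule. -/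
def gmod : VecGrp.GMod (Gr R A) E where
  ρ B _ _ := rho
  naturality {B B'} _ _ _ _ φ g x := by
    obtain ⟨f, rfl⟩ := (pts (R := R) (A := A) (B := B)).surjective g
    have e : VecGrp.ptMap φ ≫ pts f = pts (toConv (φ.comp f.ofConv)) := by
      ext1
      show Spec.map _ ≫ Spec.map _ = Spec.map _
      rw [← Spec.map_comp]
      rfl
    rw [e, rho_apply, rho_apply, MulEquiv.symm_apply_apply, MulEquiv.symm_apply_apply]
    exact act_natural _ φ f.ofConv x

theorem existsUnique_gmod : ∃! m : VecGrp.GMod (Gr R A) E,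
    ∀ (B : Type u) [CommRing B] [Algebra R B] (g : VecGrp.pt R B ⟶ Gr R A) (x : E),
      m.ρ B g ((1 : B) ⊗ₜ[R] x) =
        (TensorProduct.comm R E B) (LinearMap.lTensor E (Spec.mapMulEquiv.symm g).ofConv.toLinearMap
          (HopfRep.Comod.coact (k := R) (A := A) x)) := by
  refine ⟨gmod, fun B _ _ g x => (rho_apply g _).trans (act_one_tmul _ _ _), ?_⟩
  intro m hm
  have e : ∀ (B : Type u) [CommRing B] [Algebra R B], m.ρ B = (gmod (A := A) (E := E)).ρ B := by
    intro B _ _
    refine MonoidHom.ext fun g => LinearEquiv.toLinearMap_injective (ext_one_tmul fun x => ?_)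
    exact (hm B g x).trans ((rho_apply g _).trans (act_one_tmul _ _ _)).symm
  rcases m with ⟨ρ, hn⟩
  have hρ : @ρ = @(gmod (A := A) (E := E)).ρ := by
    funext B i1 i2
    exact e B
  unfold gmod at hρ ⊢
  subst hρ
  rfl

end Comod

theorem existsUnique_coact (m : VecGrp.GMod (Gr R A) E) : ∃! δ : E →ₗ[R] E ⊗[R] A,
    ((TensorProduct.assoc R E A A).toLinearMap ∘ₗ δ.rTensor A ∘ₗ δ =
        (CoalgebraStruct.comul (R := R) (A := A)).lTensor E ∘ₗ δ ∧
      (CoalgebraStruct.counit (R := R) (A := A)).lTensor E ∘ₗ δ = (TensorProduct.mk R E R).flip 1) ∧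
    (∀ (B : Type u) [CommRing B] [Algebra R B] (g : VecGrp.pt R B ⟶ Gr R A) (x : E),
      m.ρ B g ((1 : B) ⊗ₜ[R] x) =
        (TensorProduct.comm R E B) (LinearMap.lTensor E (Spec.mapMulEquiv.symm g).ofConv.toLinearMap (δ x))) := by
  let δ : E →ₗ[R] E ⊗[R] A := (TensorProduct.comm R A E).toLinearMap ∘ₗ
    ((m.ρ A (pts (toConv (AlgHom.id R A)))).toLinearMap.restrictScalars R) ∘ₗ TensorProduct.mk R A E 1
  have hδ : ∀ (B : Type u) [CommRing B] [Algebra R B] (f : A →ₐ[R] B) (z : B ⊗[R] E),
      m.ρ B (pts (toConv f)) z = act δ f z := by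
    intro B _ _ f
    refine LinearMap.congr_fun (f := (m.ρ B (pts (toConv f))).toLinearMap) (ext_one_tmul fun x => ?_)
    have h := m.naturality f (pts (toConv (AlgHom.id R A))) ((1 : A) ⊗ₜ[R] x)
    have e : VecGrp.ptMap f ≫ pts (toConv (AlgHom.id R A)) = pts (toConv f) := by
      ext1
      show Spec.map _ ≫ Spec.map _ = Spec.map _
      rw [← Spec.map_comp]
      rfl
    rw [e, VecGrp.Wmap_tmul, map_one] at h
    refine h.symm.trans ?_
    rw [act_one_tmul]
    simp only [δ, LinearMap.comp_apply, LinearEquiv.coe_coe, LinearMap.coe_restrictScalars, TensorProduct.mk_apply]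
    generalize m.ρ A (pts (toConv (AlgHom.id R A))) ((1 : A) ⊗ₜ[R] x) = z
    induction z using TensorProduct.induction_on with
    | zero => simp
    | add p q hp hq => simp only [map_add, hp, hq]
    | tmul p q => simp [VecGrp.Wmap_tmul]
  refine ⟨δ, ⟨⟨?_, ?_⟩, fun B _ _ g x => ?_⟩, ?_⟩
  · refine LinearMap.ext fun x => ?_
    let i1 : WithConv (A →ₐ[R] A ⊗[R] A) := toConv Algebra.TensorProduct.includeLeft
    let i2 : WithConv (A →ₐ[R] A ⊗[R] A) := toConv Algebra.TensorProduct.includeRight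
    have h1 : m.ρ (A ⊗[R] A) (pts (i1 * i2)) ((1 : A ⊗[R] A) ⊗ₜ[R] x) =
        m.ρ (A ⊗[R] A) (pts i1) (m.ρ (A ⊗[R] A) (pts i2) ((1 : A ⊗[R] A) ⊗ₜ[R] x)) := by
      rw [map_mul, map_mul, LinearEquiv.mul_apply]
    rw [← toConv_ofConv i1, ← toConv_ofConv i2, ← toConv_ofConv (toConv i1.ofConv * toConv i2.ofConv), hδ, hδ, hδ,
      act_act, act_mul_apply] at h1
    have e : (Algebra.TensorProduct.lmul' R).comp (Algebra.TensorProduct.map i1.ofConv i2.ofConv) =
        AlgHom.id R (A ⊗[R] A) := by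
      refine Algebra.TensorProduct.ext (AlgHom.ext fun a => ?_) (AlgHom.ext fun a => ?_) <;> simp [i1, i2]
    simp only [ofConv_toConv] at h1
    rw [e] at h1
    have h2 := (TensorProduct.comm R E (A ⊗[R] A)).injective h1
    rw [AlgHom.toLinearMap_id, LinearMap.lTensor_id, LinearMap.id_apply, LinearMap.id_apply] at h2
    exact h2.symm
  · refine LinearMap.ext fun x => ?_
    have h1 : m.ρ R (pts (1 : WithConv (A →ₐ[R] R))) ((1 : R) ⊗ₜ[R] x) = (1 : R) ⊗ₜ[R] x := by
      rw [map_one, map_one]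
      rfl
    rw [← toConv_ofConv (1 : WithConv (A →ₐ[R] R)), hδ, act_one_tmul] at h1
    show (Coalgebra.counit (R := R) (A := A)).lTensor E (δ x) = x ⊗ₜ[R] (1 : R)
    refine (TensorProduct.comm R E R).injective ?_
    rw [TensorProduct.comm_tmul, ← h1]
    congr 2
  · obtain ⟨f, rfl⟩ := (pts (R := R) (A := A) (B := B)).surjective g
    show _ = TensorProduct.comm R E B (LinearMap.lTensor E ((pts (R := R) (A := A) (B := B)).symm (pts f)).ofConv.toLinearMap (δ x))
    rw [MulEquiv.symm_apply_apply]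
    refine (hδ B f.ofConv _).trans (act_one_tmul _ _ _)
  · rintro δ' ⟨-, hδ'⟩
    refine LinearMap.ext fun x => ?_
    have h := hδ' A (pts (toConv (AlgHom.id R A))) x
    change _ = TensorProduct.comm R E A (LinearMap.lTensor E
      ((pts (R := R) (A := A) (B := A)).symm (pts (toConv (AlgHom.id R A)))).ofConv.toLinearMap (δ' x)) at h
    rw [MulEquiv.symm_apply_apply, ofConv_toConv, AlgHom.toLinearMap_id, LinearMap.lTensor_id, LinearMap.id_apply] at h
    show δ' x = TensorProduct.comm R A E (m.ρ A (pts (toConv (AlgHom.id R A))) ((1 : A) ⊗ₜ[R] x))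
    rw [h]
    exact ((TensorProduct.comm R E A).symm_apply_apply _).symm

end Groth.Agent.GModComod
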